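import Groth.Prelude.Def_RDer

/-!
# When the comparison `H^n (Ψ K) ⟶ Ψ (H^n K)` is an isomorphism (helper22)

For a left exact functor `Ψ` and a class `𝒜` of `Ψ`-acyclic objects (closed under quotients of
short exact sequences and such that `Ψ` is exact on short exact sequences with kernel in `𝒜`):
if the cochain complex `K` has terms in `𝒜` and is exact in degrees `< n`, then
`RDer.homologyComparison Ψ K n` is an isomorphism.
-/

set_option autoImplicit false
set_option linter.unusedSectionVars false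

universe v₂ v₃ u₂ u₃

open CategoryTheory CategoryTheory.Limits HomologicalComplex

namespace Groth.Agent.Lib.Helper22.EdgeIso

noncomputable section

variable {B : Type u₂} [Category.{v₂} B] [Abelian B] {C : Type u₃} [Category.{v₃} C] [Abelian C]
  (Ψ : B ⥤ C) [Ψ.Additive] [PreservesFiniteLimits Ψ]

/-- A class of objects acyclic for the left exact functor `Ψ`. -/
structure AcyclicClass (𝒜 : B → Prop) : Prop where
  zero : ∀ X : B, IsZero X → 𝒜 X
  quot : ∀ S : ShortComplex B, S.ShortExact → 𝒜 S.X₁ → 𝒜 S.X₂ → 𝒜 S.X₃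
  epi : ∀ S : ShortComplex B, S.ShortExact → 𝒜 S.X₁ → Epi (Ψ.map S.g)

section General

variable {ι' : Type*} {c : ComplexShape ι'} (K : HomologicalComplex B c) (i : ι')

set_option backward.isDefEq.respectTransparency false in
/-- Inverse of the comparison of cycles. -/
def cyclesComparisonInv : Ψ.obj (K.cycles i) ⟶ ((Ψ.mapHomologicalComplex c).obj K).cycles i :=
  ((Ψ.mapHomologicalComplex c).obj K).liftCycles (Ψ.map (K.iCycles i)) (c.next i) rfl (by
    rw [Functor.mapHomologicalComplex_obj_d, ← Ψ.map_comp, K.iCycles_d, Ψ.map_zero])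

set_option backward.isDefEq.respectTransparency false in
@[reassoc (attr := simp)]
lemma cyclesComparisonInv_i :
    cyclesComparisonInv Ψ K i ≫ ((Ψ.mapHomologicalComplex c).obj K).iCycles i =
      Ψ.map (K.iCycles i) := by
  simp [cyclesComparisonInv]

set_option backward.isDefEq.respectTransparency false in
instance isIso_cyclesComparison : IsIso (RDer.cyclesComparison Ψ K i) := by
  refine ⟨⟨cyclesComparisonInv Ψ K i, ?_, ?_⟩⟩
  · rw [← cancel_mono (((Ψ.mapHomologicalComplex c).obj K).iCycles i), Category.assoc,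
      cyclesComparisonInv_i, RDer.cyclesComparison_i, Category.id_comp]
  · rw [← cancel_mono (Ψ.map (K.iCycles i)), Category.assoc, RDer.cyclesComparison_i,
      cyclesComparisonInv_i, Category.id_comp]

set_option backward.isDefEq.respectTransparency false in
/-- Main step: if `Ψ (K^{i-1}) ⟶ Ψ (Z^i) ⟶ Ψ (H^i) ⟶ 0` is exact then the comparison is an iso. -/
theorem isIso_homologyComparison_of_exact' 
    (hT : (ShortComplex.mk (Ψ.map (K.toCycles (c.prev i) i)) (Ψ.map (K.homologyπ i))
      (by rw [← Ψ.map_comp, K.toCycles_comp_homologyπ, Ψ.map_zero])).Exact)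
    [Epi (Ψ.map (K.homologyπ i))] :
    IsIso (RDer.homologyComparison Ψ K i) := by
  have hcok := hT.gIsCokernel
  let K' := (Ψ.mapHomologicalComplex c).obj K
  have hw : Ψ.map (K.toCycles (c.prev i) i) ≫ inv (RDer.cyclesComparison Ψ K i) ≫ K'.homologyπ i
      = 0 := by
    rw [← RDer.toCycles_cyclesComparison, Category.assoc, IsIso.hom_inv_id_assoc,
      K'.toCycles_comp_homologyπ]
  let φ : Ψ.obj (K.homology i) ⟶ K'.homology i :=
    hcok.desc (CokernelCofork.ofπ (inv (RDer.cyclesComparison Ψ K i) ≫ K'.homologyπ i) hw)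
  have hφ : Ψ.map (K.homologyπ i) ≫ φ = inv (RDer.cyclesComparison Ψ K i) ≫ K'.homologyπ i :=
    hcok.fac _ WalkingParallelPair.one
  refine ⟨⟨φ, ?_, ?_⟩⟩
  · rw [← cancel_epi (K'.homologyπ i), RDer.homologyπ_homologyComparison_assoc, hφ,
      IsIso.hom_inv_id_assoc, Category.comp_id]
  · rw [← cancel_epi (Ψ.map (K.homologyπ i)), reassoc_of% hφ]
    erw [RDer.homologyπ_homologyComparison]
    rw [IsIso.inv_hom_id_assoc, Category.comp_id]

theorem isIso_homologyComparison_of_exact (i j : ι') (hi : c.prev j = i)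
    (hT : (ShortComplex.mk (Ψ.map (K.toCycles i j)) (Ψ.map (K.homologyπ j))
      (by rw [← Ψ.map_comp, K.toCycles_comp_homologyπ, Ψ.map_zero])).Exact)
    (hE : Epi (Ψ.map (K.homologyπ j))) :
    IsIso (RDer.homologyComparison Ψ K j) := by
  subst hi
  exact isIso_homologyComparison_of_exact' Ψ K j hT

/-- Exactness at `j` means that `K^{i} ⟶ Z^j` is an epimorphism (`i = prev j`). -/
lemma epi_toCycles_of_exactAt (i j : ι') (hi : c.prev j = i) (h : K.ExactAt j) :
    Epi (K.toCycles i j) := by
  subst hi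
  exact (ShortComplex.exact_iff_epi_toCycles _).1 h

/-- `0 ⟶ Z^i ⟶ K^i ⟶ Z^j` is exact (for `j = next i`). -/
lemma cyclesSC_exact (i j : ι') (hj : c.next i = j) :
    (ShortComplex.mk (K.iCycles i) (K.toCycles i j) (by
      rw [← cancel_mono (K.iCycles j), Category.assoc, K.toCycles_i, K.iCycles_d,
        zero_comp])).Exact :=
  ShortComplex.exact_of_f_is_kernel _
    (isKernelOfComp (K.iCycles j) (K.d i j) (K.cyclesIsKernel i j hj) _ (K.toCycles_i i j))

lemma cyclesSC_shortExact (i j : ι') (hj : c.next i = j) (hi : c.prev j = i) (h : K.ExactAt j) :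
    (ShortComplex.mk (K.iCycles i) (K.toCycles i j) (by
      rw [← cancel_mono (K.iCycles j), Category.assoc, K.toCycles_i, K.iCycles_d,
        zero_comp])).ShortExact :=
  have := epi_toCycles_of_exactAt K i j hi h
  { exact := cyclesSC_exact K i j hj
    mono_f := inferInstanceAs (Mono (K.iCycles i))
    epi_g := inferInstanceAs (Epi (K.toCycles i j)) }

end General

section Cochain

variable {Ψ} {𝒜 : B → Prop} (h𝒜 : AcyclicClass Ψ 𝒜) (K : CochainComplex B ℕ)

include h𝒜 in
lemma acyclic_cycles (n : ℕ) (hK : ∀ i, i < n → 𝒜 (K.X i)) (hex : ∀ p, p < n → K.ExactAt p) :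
    ∀ i, i < n → 𝒜 (K.cycles i)
  | 0, h0 => h𝒜.zero _ (IsZero.of_iso ((K.exactAt_iff_isZero_homology 0).1 (hex 0 h0))
      K.isoHomologyπ₀)
  | i + 1, hi => h𝒜.quot _ (cyclesSC_shortExact K i (i + 1) (by simp) (by simp) (hex _ hi))
      (acyclic_cycles n hK hex i (by omega)) (hK i (by omega))

include h𝒜 in
/-- If `K` has `Ψ`-acyclic terms and is exact in degrees `< n`, then `H^n (Ψ K) ≅ Ψ (H^n K)`. -/
theorem isIso_homologyComparison (n : ℕ) (hK : ∀ i, i < n → 𝒜 (K.X i))
    (hex : ∀ p, p < n → K.ExactAt p) : IsIso (RDer.homologyComparison Ψ K n) := by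
  cases n with
  | zero =>
    have h1 : IsIso (K.homologyπ 0) := inferInstanceAs (IsIso K.isoHomologyπ₀.hom)
    have h2 : IsIso (((Ψ.mapHomologicalComplex _).obj K).homologyπ 0) :=
      inferInstanceAs (IsIso (CochainComplex.isoHomologyπ₀ _).hom)
    have h3 := RDer.homologyπ_homologyComparison Ψ K 0
    have h4 : IsIso (((Ψ.mapHomologicalComplex _).obj K).homologyπ 0 ≫
        RDer.homologyComparison Ψ K 0) := by
      rw [h3]
      infer_instance
    exact IsIso.of_isIso_comp_left (((Ψ.mapHomologicalComplex _).obj K).homologyπ 0) _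
  | succ m =>
    have hZm : 𝒜 (K.cycles m) := acyclic_cycles h𝒜 K (m + 1) hK hex m (by omega)
    have hKm : 𝒜 (K.X m) := hK m (by omega)
    -- boundaries
    have hex1 : (ShortComplex.mk (K.toCycles m (m + 1)) (K.homologyπ (m + 1))
        (K.toCycles_comp_homologyπ m (m + 1))).Exact :=
      ShortComplex.exact_of_g_is_cokernel _ (K.homologyIsCokernel m (m + 1) (by simp))
    have hepi : Epi (kernel.lift (K.homologyπ (m + 1)) (K.toCycles m (m + 1))
        (K.toCycles_comp_homologyπ m (m + 1))) := hex1.epi_kernelLift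
    have hfac : kernel.lift (K.homologyπ (m + 1)) (K.toCycles m (m + 1))
        (K.toCycles_comp_homologyπ m (m + 1)) ≫ kernel.ι (K.homologyπ (m + 1)) ≫
          K.iCycles (m + 1) = K.d m (m + 1) := by
      rw [kernel.lift_ι_assoc, K.toCycles_i]
    have hz : K.iCycles m ≫ kernel.lift (K.homologyπ (m + 1)) (K.toCycles m (m + 1))
        (K.toCycles_comp_homologyπ m (m + 1)) = 0 := by
      rw [← cancel_mono (kernel.ι (K.homologyπ (m + 1)) ≫ K.iCycles (m + 1)), Category.assoc,
        hfac, K.iCycles_d, zero_comp]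
    have hS1 : (ShortComplex.mk _ _ hz).ShortExact :=
      { exact := ShortComplex.exact_of_f_is_kernel _
          (isKernelOfComp (kernel.ι (K.homologyπ (m + 1)) ≫ K.iCycles (m + 1)) (K.d m (m + 1))
            (K.cyclesIsKernel m (m + 1) (by simp)) _ hfac)
        mono_f := inferInstanceAs (Mono (K.iCycles m))
        epi_g := hepi }
    have hBd : 𝒜 (kernel (K.homologyπ (m + 1))) := h𝒜.quot _ hS1 hZm hKm
    have hepi' : Epi (Ψ.map (kernel.lift (K.homologyπ (m + 1)) (K.toCycles m (m + 1))
        (K.toCycles_comp_homologyπ m (m + 1)))) := h𝒜.epi _ hS1 hZm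
    have hS2 : (ShortComplex.mk (kernel.ι (K.homologyπ (m + 1))) (K.homologyπ (m + 1))
        (kernel.condition _)).ShortExact :=
      { exact := ShortComplex.exact_kernel _
        mono_f := inferInstanceAs (Mono (kernel.ι _))
        epi_g := inferInstanceAs (Epi (K.homologyπ (m + 1))) }
    have hEπ : Epi (Ψ.map (K.homologyπ (m + 1))) := h𝒜.epi _ hS2 hBd
    have hS2' := hS2.exact.map_of_mono_of_preservesKernel Ψ hS2.mono_f inferInstance
    refine isIso_homologyComparison_of_exact Ψ K m (m + 1) (by simp) ?_ hEπ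
    let T : ShortComplex C := ShortComplex.mk (Ψ.map (K.toCycles m (m + 1)))
      (Ψ.map (K.homologyπ (m + 1)))
      (by rw [← Ψ.map_comp, K.toCycles_comp_homologyπ, Ψ.map_zero])
    let φ : T ⟶ (ShortComplex.mk (kernel.ι (K.homologyπ (m + 1))) (K.homologyπ (m + 1))
        (kernel.condition _)).map Ψ :=
      { τ₁ := Ψ.map (kernel.lift (K.homologyπ (m + 1)) (K.toCycles m (m + 1))
          (K.toCycles_comp_homologyπ m (m + 1)))
        τ₂ := 𝟙 _
        τ₃ := 𝟙 _
        comm₁₂ := by
          change Ψ.map _ ≫ Ψ.map _ = Ψ.map _ ≫ 𝟙 _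
          rw [Category.comp_id, ← Ψ.map_comp, kernel.lift_ι]
        comm₂₃ := by
          change 𝟙 _ ≫ Ψ.map _ = Ψ.map _ ≫ 𝟙 _
          rw [Category.comp_id, Category.id_comp] }
    have : Epi φ.τ₁ := hepi'
    have : IsIso φ.τ₂ := inferInstanceAs (IsIso (𝟙 _))
    have : Mono φ.τ₃ := inferInstanceAs (Mono (𝟙 _))
    exact (ShortComplex.exact_iff_of_epi_of_isIso_of_mono φ).2 hS2'

end Cochain

end

end Groth.Agent.Lib.Helper22.EdgeIso
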