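import Groth.Agent.Lib.Helper22.EdgeIso.Vanish
import Groth.Agent.Lib.Helper22.Horseshoe.DerivedLES

/-!
# Comparison `H^n (Ψ K) ≅ Ψ (H^n K)` when the terms and the cohomology of `K` are `Ψ`-acyclic;
the class of `Ψ`-acyclic objects; edge isomorphism `R^n (Φ ⋙ Ψ) X ≅ Ψ (R^n Φ X)` (helper22)
-/

set_option autoImplicit false
set_option linter.unusedSectionVars false

universe v₁ v₂ v₃ u₁ u₂ u₃

open CategoryTheory CategoryTheory.Limits HomologicalComplex

namespace Groth.Agent.Lib.Helper22.EdgeIso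

noncomputable section

section Cochain

variable {B : Type u₂} [Category.{v₂} B] [Abelian B] {C : Type u₃} [Category.{v₃} C] [Abelian C]
  {Ψ : B ⥤ C} [Ψ.Additive] [PreservesFiniteLimits Ψ]
  {𝒜 : B → Prop} (h𝒜 : AcyclicClass Ψ 𝒜) (K : CochainComplex B ℕ)

include h𝒜 in
/-- One step: if `Z^m` and `K^m` are acyclic then `B^{m+1}` is acyclic and the comparison in degree
`m + 1` is an isomorphism. -/
theorem step (m : ℕ) (hZm : 𝒜 (K.cycles m)) (hKm : 𝒜 (K.X m)) :
    𝒜 (kernel (K.homologyπ (m + 1))) ∧ IsIso (RDer.homologyComparison Ψ K (m + 1)) := by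
  have hex1 : (ShortComplex.mk (K.toCycles m (m + 1)) (K.homologyπ (m + 1))
      (K.toCycles_comp_homologyπ m (m + 1))).Exact :=
    ShortComplex.exact_of_g_is_cokernel _ (K.homologyIsCokernel m (m + 1) (by simp))
  have hepi : Epi (kernel.lift (K.homologyπ (m + 1)) (K.toCycles m (m + 1))
      (K.toCycles_comp_homologyπ m (m + 1))) := hex1.epi_kernelLift
  have hfac : kernel.lift (K.homologyπ (m + 1)) (K.toCycles m (m + 1))
      (K.toCycles_comp_homologyπ m (m + 1)) ≫ kernel.ι (K.homologyπ (m + 1)) ≫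
        K.iCycles (m + 1) = K.d m (m + 1) := by
    rw [kernel.lift_ι_assoc, K.toCycles_i]
  have hz : K.iCycles m ≫ kernel.lift (K.homologyπ (m + 1)) (K.toCycles m (m + 1))
      (K.toCycles_comp_homologyπ m (m + 1)) = 0 := by
    rw [← cancel_mono (kernel.ι (K.homologyπ (m + 1)) ≫ K.iCycles (m + 1)), Category.assoc,
      hfac, K.iCycles_d, zero_comp]
  have hS1 : (ShortComplex.mk _ _ hz).ShortExact :=
    { exact := ShortComplex.exact_of_f_is_kernel _
        (isKernelOfComp (kernel.ι (K.homologyπ (m + 1)) ≫ K.iCycles (m + 1)) (K.d m (m + 1))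
          (K.cyclesIsKernel m (m + 1) (by simp)) _ hfac)
      mono_f := inferInstanceAs (Mono (K.iCycles m))
      epi_g := hepi }
  have hBd : 𝒜 (kernel (K.homologyπ (m + 1))) := h𝒜.quot _ hS1 hZm hKm
  refine ⟨hBd, ?_⟩
  have hepi' : Epi (Ψ.map (kernel.lift (K.homologyπ (m + 1)) (K.toCycles m (m + 1))
      (K.toCycles_comp_homologyπ m (m + 1)))) := h𝒜.epi _ hS1 hZm
  have hS2 : (ShortComplex.mk (kernel.ι (K.homologyπ (m + 1))) (K.homologyπ (m + 1))
      (kernel.condition _)).ShortExact :=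
    { exact := ShortComplex.exact_kernel _
      mono_f := inferInstanceAs (Mono (kernel.ι _))
      epi_g := inferInstanceAs (Epi (K.homologyπ (m + 1))) }
  have hEπ : Epi (Ψ.map (K.homologyπ (m + 1))) := h𝒜.epi _ hS2 hBd
  have hS2' := hS2.exact.map_of_mono_of_preservesKernel Ψ hS2.mono_f inferInstance
  refine isIso_homologyComparison_of_exact Ψ K m (m + 1) (by simp) ?_ hEπ
  let T : ShortComplex C := ShortComplex.mk (Ψ.map (K.toCycles m (m + 1)))
    (Ψ.map (K.homologyπ (m + 1)))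
    (by rw [← Ψ.map_comp, K.toCycles_comp_homologyπ, Ψ.map_zero])
  let φ : T ⟶ (ShortComplex.mk (kernel.ι (K.homologyπ (m + 1))) (K.homologyπ (m + 1))
      (kernel.condition _)).map Ψ :=
    { τ₁ := Ψ.map (kernel.lift (K.homologyπ (m + 1)) (K.toCycles m (m + 1))
        (K.toCycles_comp_homologyπ m (m + 1)))
      τ₂ := 𝟙 _
      τ₃ := 𝟙 _
      comm₁₂ := by
        change Ψ.map _ ≫ Ψ.map _ = Ψ.map _ ≫ 𝟙 _
        rw [Category.comp_id, ← Ψ.map_comp, kernel.lift_ι]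
      comm₂₃ := by
        change 𝟙 _ ≫ Ψ.map _ = Ψ.map _ ≫ 𝟙 _
        rw [Category.comp_id, Category.id_comp] }
  have : Epi φ.τ₁ := hepi'
  have : IsIso φ.τ₂ := inferInstanceAs (IsIso (𝟙 _))
  have : Mono φ.τ₃ := inferInstanceAs (Mono (𝟙 _))
  exact (ShortComplex.exact_iff_of_epi_of_isIso_of_mono φ).2 hS2'

variable (hiso : ∀ X Y : B, (X ≅ Y) → 𝒜 X → 𝒜 Y)
  (hext : ∀ S : ShortComplex B, S.ShortExact → 𝒜 S.X₁ → 𝒜 S.X₃ → 𝒜 S.X₂)

include h𝒜 hiso hext in
lemma acyclic_cycles_of_homology (hK : ∀ i, 𝒜 (K.X i)) (hH : ∀ i, 𝒜 (K.homology i)) :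
    ∀ i, 𝒜 (K.cycles i)
  | 0 => hiso _ _ K.isoHomologyπ₀.symm (hH 0)
  | i + 1 => by
    have hS2 : (ShortComplex.mk (kernel.ι (K.homologyπ (i + 1))) (K.homologyπ (i + 1))
        (kernel.condition _)).ShortExact :=
      { exact := ShortComplex.exact_kernel _
        mono_f := inferInstanceAs (Mono (kernel.ι _))
        epi_g := inferInstanceAs (Epi (K.homologyπ (i + 1))) }
    exact hext _ hS2
      (step h𝒜 K i (acyclic_cycles_of_homology hK hH i) (hK i)).1 (hH (i + 1))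

include h𝒜 hiso hext in
/-- If the terms and the cohomology objects of `K` are `Ψ`-acyclic (for a class of acyclic objects
closed under extensions), then `H^n (Ψ K) ≅ Ψ (H^n K)` for every `n`. -/
theorem isIso_homologyComparison_of_homology (hK : ∀ i, 𝒜 (K.X i))
    (hH : ∀ i, 𝒜 (K.homology i)) (n : ℕ) : IsIso (RDer.homologyComparison Ψ K n) := by
  cases n with
  | zero =>
    exact isIso_homologyComparison h𝒜 K 0 (fun i hi => absurd hi (by omega))
      (fun i hi => absurd hi (by omega))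
  | succ m =>
    exact (step h𝒜 K m (acyclic_cycles_of_homology h𝒜 K hiso hext hK hH m) (hK m)).2

end Cochain

section Edge

variable {A : Type u₁} [Category.{v₁} A] [Abelian A] [HasInjectiveResolutions A]
  {B : Type u₂} [Category.{v₂} B] [Abelian B] {C : Type u₃} [Category.{v₃} C] [Abelian C]
  (Φ : A ⥤ B) [Φ.Additive] (Ψ : B ⥤ C) [Ψ.Additive] [PreservesFiniteLimits Ψ]
  {𝒜 : B → Prop} (h𝒜 : AcyclicClass Ψ 𝒜)
  (hiso : ∀ X Y : B, (X ≅ Y) → 𝒜 X → 𝒜 Y)
  (hext : ∀ S : ShortComplex B, S.ShortExact → 𝒜 S.X₁ → 𝒜 S.X₃ → 𝒜 S.X₂)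
  (hΦ : ∀ I : A, Injective I → 𝒜 (Φ.obj I))

include h𝒜 hiso hext hΦ in
/-- If `Φ` sends injectives to `Ψ`-acyclics and all `R^q Φ X` are `Ψ`-acyclic, the edge map
`R^n (Φ ⋙ Ψ) X ⟶ Ψ (R^n Φ X)` is an isomorphism. -/
theorem isIso_edgeOut_of_acyclic (X : A) (h : ∀ q, 𝒜 ((Φ.rightDerived q).obj X)) (n : ℕ) :
    IsIso (RDer.edgeOut Φ Ψ n X) := by
  let I := injectiveResolution X
  let K := (Φ.mapHomologicalComplex _).obj I.cocomplex
  have hK : ∀ i, 𝒜 (K.X i) := fun i => hΦ _ (I.injective i)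
  have hH : ∀ i, 𝒜 (K.homology i) := fun i =>
    hiso _ _ (I.isoRightDerivedObj Φ i) (h i)
  have h1 := isIso_homologyComparison_of_homology h𝒜 K hiso hext hK hH n
  unfold RDer.edgeOut
  refine @IsIso.comp_isIso _ _ _ _ _ _ _ inferInstance
    (@IsIso.comp_isIso _ _ _ _ _ _ _ ?_ inferInstance)
  exact h1

end Edge

section Acyc

variable {B : Type u₂} [Category.{v₂} B] [Abelian B] [EnoughInjectives B]
  {C : Type u₃} [Category.{v₃} C] [Abelian C]
  (Ψ : B ⥤ C) [Ψ.Additive] [PreservesFiniteLimits Ψ]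

/-- `Ψ`-acyclic objects: all higher right derived functors vanish. -/
def Acyc (N : B) : Prop := ∀ q : ℕ, IsZero ((Ψ.rightDerived (q + 1)).obj N)

lemma acyc_of_iso {X Y : B} (e : X ≅ Y) (h : Acyc Ψ X) : Acyc Ψ Y := fun q =>
  IsZero.of_iso (h q) ((Ψ.rightDerived (q + 1)).mapIso e.symm)

lemma acyc_ext (S : ShortComplex B) (hS : S.ShortExact) (h₁ : Acyc Ψ S.X₁) (h₃ : Acyc Ψ S.X₃) :
    Acyc Ψ S.X₂ := fun q =>
  ((Horseshoe.derivedLES Ψ).exact₂ S hS (q + 1)).isZero_of_both_zeros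
    ((h₁ q).eq_of_src _ _) ((h₃ q).eq_of_tgt _ _)

theorem acyclicClass_acyc : AcyclicClass Ψ (Acyc Ψ) where
  zero X hX q := Functor.map_isZero _ hX
  quot S hS h₁ h₂ q :=
    ((Horseshoe.derivedLES Ψ).exact₃ S hS (q + 1) (q + 2) rfl).isZero_of_both_zeros
      ((h₂ q).eq_of_src _ _) ((h₁ (q + 1)).eq_of_tgt _ _)
  epi S hS h₁ := by
    have he := (Horseshoe.derivedLES Ψ).exact₃ S hS 0 1 rfl
    have h0 : (Horseshoe.derivedLES Ψ).δ S hS 0 1 rfl = 0 := (h₁ 0).eq_of_tgt _ _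
    have hepi : Epi ((Ψ.rightDerived 0).map S.g) := he.epi_f h0
    have hn := Ψ.toRightDerivedZero.naturality S.g
    have : Epi (Ψ.toRightDerivedZero.app S.X₂ ≫ (Ψ.rightDerived 0).map S.g) :=
      epi_comp _ _
    rw [← hn] at this
    have h3 : Epi (Ψ.map S.g ≫ Ψ.toRightDerivedZero.app S.X₃ ≫
        inv (Ψ.toRightDerivedZero.app S.X₃)) := by
      rw [← Category.assoc]
      exact epi_comp _ _
    rwa [IsIso.hom_inv_id, Category.comp_id] at h3

end Acyc

end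

end Groth.Agent.Lib.Helper22.EdgeIso
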