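import Groth.Prelude.Def_RDer
import Mathlib

/-!
# The first edge map `R^q Ψ (Φ X) ⟶ R^q (Φ ⋙ Ψ) X` is an isomorphism when `X` is `Φ`-acyclic

`Φ` left exact, preserving injectives, with `R^q Φ X = 0` for `q > 0`: then `Φ I` is an injective resolution of `Φ X`
(for `I` an injective resolution of `X`), so the comparison `J ⟶ Φ I` is a homotopy equivalence.
-/

universe v₁ v₂ v₃ u₁ u₂ u₃

open CategoryTheory CategoryTheory.Limits HomologicalComplex

namespace Groth.Agent.Lib.Helper22.EdgeIn

noncomputable section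

variable {A : Type u₁} [Category.{v₁} A] [Abelian A] [HasInjectiveResolutions A]
  {B : Type u₂} [Category.{v₂} B] [Abelian B] [HasInjectiveResolutions B]
  {C : Type u₃} [Category.{v₃} C] [Abelian C]
  (Φ : A ⥤ B) [Φ.Additive] [Φ.PreservesInjectiveObjects] [PreservesFiniteLimits Φ]
  (Ψ : B ⥤ C) [Ψ.Additive]

omit [HasInjectiveResolutions A] [HasInjectiveResolutions B] [Φ.PreservesInjectiveObjects]
  [PreservesFiniteLimits Φ] in
lemma mapAug_f_zero {X : A} (I : InjectiveResolution X) :
    (RDer.mapAug Φ I.ι).f 0 = Φ.map (I.ι.f 0) := by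
  simp [RDer.mapAug, HomologicalComplex.singleMapHomologicalComplex_inv_app_self]
  exact Category.id_comp _

omit [HasInjectiveResolutions B] [Φ.PreservesInjectiveObjects] in
lemma quasiIso_mapAug {X : A} (I : InjectiveResolution X)
    (h : ∀ q : ℕ, 0 < q → IsZero ((Φ.rightDerived q).obj X)) :
    QuasiIso (RDer.mapAug Φ I.ι) := ⟨fun n => by
  cases n with
  | zero =>
    rw [CochainComplex.quasiIsoAt₀_iff, ShortComplex.quasiIso_iff_of_zeros]
    · have hex : (ShortComplex.mk (I.ι.f 0) (I.cocomplex.d 0 1) (RDer.res_ι_d _ I.ι)).Exact :=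
        RDer.res_exact₀ _ I.ι
      have hmono : Mono (I.ι.f 0) := inferInstance
      have h1 := hex.map_of_mono_of_preservesKernel Φ hmono inferInstance
      have hm : Mono (Φ.map (I.ι.f 0)) := inferInstance
      refine ⟨?_, ?_⟩
      · refine (ShortComplex.exact_iff_of_iso ?_).1 h1
        refine ShortComplex.isoMk (Iso.refl _) (Iso.refl _) (Iso.refl _) ?_ ?_
        · change 𝟙 _ ≫ (RDer.mapAug Φ I.ι).f 0 = Φ.map (I.ι.f 0) ≫ 𝟙 _
          rw [mapAug_f_zero, Category.id_comp, Category.comp_id]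
        · change 𝟙 _ ≫ ((Φ.mapHomologicalComplex _).obj I.cocomplex).d 0 1 =
            Φ.map (I.cocomplex.d 0 1) ≫ 𝟙 _
          rw [Category.id_comp, Category.comp_id]
          rfl
      · change Mono ((RDer.mapAug Φ I.ι).f 0)
        rw [mapAug_f_zero]
        exact hm
    · rfl
    · rfl
    · change Φ.map (I.cocomplex.d 0 0) = 0
      rw [I.cocomplex.shape 0 0 (by simp), Φ.map_zero]
  | succ n =>
    rw [quasiIsoAt_iff_exactAt]
    · rw [HomologicalComplex.exactAt_iff_isZero_homology]
      exact (h (n + 1) (Nat.succ_pos n)).of_iso (I.isoRightDerivedObj Φ (n + 1)).symm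
    · exact CochainComplex.exactAt_succ_single_obj _ _⟩

/-- `Φ I` as an injective resolution of `Φ X`, for `X` a `Φ`-acyclic object. -/
def pushRes {X : A} (I : InjectiveResolution X)
    (h : ∀ q : ℕ, 0 < q → IsZero ((Φ.rightDerived q).obj X)) : InjectiveResolution (Φ.obj X) where
  cocomplex := (Φ.mapHomologicalComplex _).obj I.cocomplex
  injective n := Φ.injective_obj (I.cocomplex.X n)
  ι := RDer.mapAug Φ I.ι
  quasiIso := quasiIso_mapAug Φ I h

theorem isIso_edgeIn (X : A) (h : ∀ q : ℕ, 0 < q → IsZero ((Φ.rightDerived q).obj X)) (q : ℕ) :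
    IsIso (RDer.edgeIn Φ Ψ q X) := by
  let I := injectiveResolution X
  let J := injectiveResolution (Φ.obj X)
  let I' := pushRes Φ I h
  let d := RDer.descToInjectives (𝟙 (Φ.obj X)) J.cocomplex J.ι
    ((Φ.mapHomologicalComplex _).obj I.cocomplex) (RDer.mapAug Φ I.ι)
  have hd : J.ι ≫ d = (CochainComplex.single₀ B).map (𝟙 (Φ.obj X)) ≫ I'.ι := by
    apply HomologicalComplex.from_single_hom_ext
    rw [HomologicalComplex.comp_f, RDer.ι_descToInjectives_f_zero]
    simp [I']
    rfl
  let e := InjectiveResolution.homotopyEquiv J I'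
  have he : J.ι ≫ e.hom = (CochainComplex.single₀ B).map (𝟙 (Φ.obj X)) ≫ I'.ι := by
    simp [e]
  have hH : Homotopy d e.hom := InjectiveResolution.descHomotopy (𝟙 (Φ.obj X)) d e.hom hd he
  have hmap : (HomologicalComplex.homologyFunctor C _ q).map ((Ψ.mapHomologicalComplex _).map d) =
      (HomologicalComplex.homologyFunctor C _ q).map ((Ψ.mapHomologicalComplex _).map e.hom) :=
    (Ψ.mapHomotopy hH).homologyMap_eq q
  have hiso : IsIso ((HomologicalComplex.homologyFunctor C _ q).map
      ((Ψ.mapHomologicalComplex _).map e.hom)) :=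
    ((Ψ.mapHomotopyEquiv e).toHomologyIso q).isIso_hom
  have hiso' : IsIso ((HomologicalComplex.homologyFunctor C _ q).map
      ((Ψ.mapHomologicalComplex _).map d)) := by rw [hmap]; exact hiso
  dsimp only [RDer.edgeIn]
  infer_instance

end

end Groth.Agent.Lib.Helper22.EdgeIn
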