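import Groth.Prelude.Def_EtDual
import Groth.Agent.Lib.Helper22.EdgeIso.Comparison
import Groth.Agent.Lib.Helper22.EtLoc.ExcisionH
import Groth.Agent.Lib.Helper22.EtLoc.AcyclicOpen

/-!
# `Γ_Y` of an injective étale sheaf is acyclic on every étale scheme (helper22)
-/

set_option autoImplicit false
set_option linter.unusedSectionVars false

universe u

open CategoryTheory CategoryTheory.Limits Opposite AlgebraicGeometry Abelian

namespace Groth.Agent.Lib.Helper22.EdgeIso

open Groth.Agent.Lib.Helper22.EtLoc Groth.Agent.Lib.Helper22.CechU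
  Groth.Agent.Lib.Helper22.CechU.Etale Groth.Agent.Lib.Helper22.EtLoc.ExcisionH

noncomputable section

variable {X U : Scheme.{u}}

/-- Global sections functor on abelian étale sheaves. -/
abbrev Γf (X : Scheme.{u}) : EtCoh.Ab X ⥤ AddCommGrpCat.{u + 1} :=
  sheafToPresheaf X.smallEtaleTopology AddCommGrpCat.{u+1} ⋙
    (evaluation X.Etaleᵒᵖ AddCommGrpCat.{u+1}).obj (op (EtCoh.top X))

lemma acyclicAll_of_isZero (F : EtCoh.Ab X) (hF : IsZero F) : AcyclicAll F := by
  intro W q hq
  have hE : Etale W.hom := W.prop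
  have hz : IsZero ((EtCoh.pull W.hom).obj F) := Functor.map_isZero _ hF
  refine subsingleton_of_forall_eq 0 fun x => ?_
  have h1 : x = x.comp (Ext.mk₀ (𝟙 _)) (add_zero q) := (Ext.comp_mk₀_id x).symm
  rw [h1, hz.eq_of_src (𝟙 _) 0, Ext.mk₀_zero, Ext.comp_zero]

theorem acyclicClass_Γ : AcyclicClass (Γf X) (AcyclicAll (X := X)) where
  zero := acyclicAll_of_isZero
  quot := acyclicAll_quot
  epi S hS h1 := by
    rw [AddCommGrpCat.epi_iff_surjective]
    exact sections_surjective_of_H1 S hS (EtCoh.top X) (h1 _ 1 Nat.one_pos)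

/-- Kernel of a sectionwise surjection between sheaves acyclic on every étale scheme. -/
theorem acyclicAll_ker (S : ShortComplex (EtCoh.Ab X)) (hS : S.ShortExact)
    (h2 : AcyclicAll S.X₂) (h3 : AcyclicAll S.X₃)
    (hsurj : ∀ W : X.Etale, Function.Surjective (S.g.hom.app (op W))) : AcyclicAll S.X₁ := by
  intro W q hq
  have hE : Etale W.hom := W.prop
  have hT := hS.map_of_exact (EtCoh.pull W.hom)
  refine subsingleton_of_forall_eq 0 fun x₁ => ?_
  have h0 : x₁.comp (Ext.mk₀ (S.map (EtCoh.pull W.hom)).f) (add_zero q) = 0 :=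
    @Subsingleton.elim _ (h2 W q hq) _ _
  obtain ⟨n, rfl⟩ : ∃ n, q = n + 1 := ⟨q - 1, by omega⟩
  obtain ⟨x₃, hx₃⟩ := Ext.covariant_sequence_exact₁ _ hT x₁ h0 rfl
  rw [← hx₃]
  cases n with
  | zero =>
    -- `x₃` lifts to `H⁰` of the middle term
    have hsurj' : Function.Surjective
        (((EtCoh.pull W.hom).map S.g).hom.app (op (EtCoh.top W.left))) := by
      intro t
      obtain ⟨s, hs⟩ := hsurj _ ((σ W.hom S.X₃).hom t)
      refine ⟨(σ W.hom S.X₂).inv s, ?_⟩
      have h := congrArg (fun φ => (ConcreteCategory.hom φ) ((σ W.hom S.X₂).inv s))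
        (σ_naturality W.hom S.g)
      have h' : (σ W.hom S.X₃).hom (((EtCoh.pull W.hom).map S.g).hom.app
          (op (EtCoh.top W.left)) ((σ W.hom S.X₂).inv s)) =
          S.g.hom.app (op ((pj W.hom).obj (EtCoh.top W.left)))
            ((σ W.hom S.X₂).hom ((σ W.hom S.X₂).inv s)) := h
      have h'' : (σ W.hom S.X₂).hom ((σ W.hom S.X₂).inv s) = s :=
        congrArg (fun φ => (ConcreteCategory.hom φ) s) (σ W.hom S.X₂).inv_hom_id
      have hinj : Function.Injective (σ W.hom S.X₃).hom :=
        (ConcreteCategory.bijective_of_isIso (σ W.hom S.X₃).hom).1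
      exact hinj (h'.trans ((congrArg _ h'').trans hs))
    obtain ⟨s, hs⟩ := hsurj' (Sheaf.H.equiv₀ _ (EtCore.topIsTerminal W.left) x₃)
    let x₂ : EtCoh.H W.left ((EtCoh.pull W.hom).obj S.X₂) 0 :=
      (Sheaf.H.equiv₀ _ (EtCore.topIsTerminal W.left)).symm s
    have hx₂ : x₂.comp (Ext.mk₀ (S.map (EtCoh.pull W.hom)).g) (add_zero 0) = x₃ := by
      apply (Sheaf.H.equiv₀ _ (EtCore.topIsTerminal W.left)).injective
      have h := Sheaf.H.equiv₀_naturality (hT := EtCore.topIsTerminal W.left)
        ((EtCoh.pull W.hom).map S.g) x₂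
      rw [Sheaf.H.map_apply] at h
      refine h.symm.trans ?_
      have e : Sheaf.H.equiv₀ _ (EtCore.topIsTerminal W.left) x₂ = s :=
        AddEquiv.apply_symm_apply _ s
      exact (congrArg _ e).trans hs
    rw [← hx₂]
    have hz : (Ext.mk₀ (S.map (EtCoh.pull W.hom)).g).comp hT.extClass (zero_add 1) = 0 :=
      hT.comp_extClass
    exact (Ext.comp_assoc_of_second_deg_zero x₂ _ _ _).trans
      ((congrArg (fun z => x₂.comp z (zero_add 1)) hz).trans (Ext.comp_zero x₂ _ _ _ _))
  | succ n =>
    have hx0 : x₃ = 0 := @Subsingleton.elim _ (h3 W (n + 1) (Nat.succ_pos _)) _ _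
    subst hx0
    exact Ext.zero_comp _ _ hT.extClass _ rfl

section SecSupp

variable (j : U ⟶ X) [IsOpenImmersion j] [EtCoh.BCCont j]

instance mono_counit_pjAdj (W : X.Etale) : Mono ((pjAdj j).counit.app W) := by
  have hl : IsOpenImmersion ((pjAdj j).counit.app W).left :=
    inferInstanceAs (IsOpenImmersion (pullback.fst W.hom j))
  constructor
  intro Z a b hab
  exact MorphismProperty.Over.Hom.ext
    ((cancel_mono ((pjAdj j).counit.app W).left).1 (congrArg (fun φ => φ.left) hab))

/-- For an injective sheaf `I`, the unit `I ⟶ j_* j^* I` is sectionwise surjective. -/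
lemma unit_surjective_of_injective (I : EtCoh.Ab X) [Injective I] (W : X.Etale) :
    Function.Surjective ((EtDual.unitApp j I).hom.app (op W)) := by
  intro t
  have h := Adjunction.unit_leftAdjointUniq_hom_app (EtCoh.pullPushAdj j) (resPushAdj j) I
  let m := (EtCoh.push j).map
    ((Adjunction.leftAdjointUniq (EtCoh.pullPushAdj j) (resPushAdj j)).hom.app I)
  have hm : IsIso m := inferInstance
  have hinj : Function.Injective (m.hom.app (op W)) := Site.injective_app_of_mono m _
  obtain ⟨s, hs⟩ := surjective_res_of_injective I ((pjAdj j).counit.app W) (m.hom.app (op W) t)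
  refine ⟨s, hinj ?_⟩
  have h2 : ((resPushAdj j).unit.app I).hom.app (op W) s =
      m.hom.app (op W) ((EtDual.unitApp j I).hom.app (op W) s) := by
    rw [← h]
    rfl
  exact h2.symm.trans hs

lemma secSuppSC_shortExact (I : EtCoh.Ab X) [Injective I] :
    (ShortComplex.mk (kernel.ι (EtDual.unitApp j I)) (EtDual.unitApp j I)
      (kernel.condition _)).ShortExact := by
  have : Sheaf.IsLocallySurjective (EtDual.unitApp j I) :=
    Presheaf.isLocallySurjective_of_surjective _ _
      (fun W => unit_surjective_of_injective j I W.unop)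
  exact
    { exact := ShortComplex.exact_kernel _
      mono_f := inferInstanceAs (Mono (kernel.ι _))
      epi_g := Sheaf.epi_of_isLocallySurjective _ }

/-- `Γ_Y` of an injective sheaf is acyclic on every étale scheme. -/
theorem acyclicAll_secSupp_of_injective (I : EtCoh.Ab X) [Injective I] :
    AcyclicAll ((EtDual.secSupp j).obj I) := by
  have hpI : Injective ((EtCoh.pull j).obj I) :=
    have := injective_res j I
    Injective.of_iso ((pullIsoRes j).app I).symm inferInstance
  refine acyclicAll_ker _ (secSuppSC_shortExact j I)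
    (acyclicAll_of_cechFlasque _ (cechFlasque_of_injective I))
    (acyclicAll_push j _ (acyclicAll_of_cechFlasque _ (cechFlasque_of_injective _)))
    (fun W => unit_surjective_of_injective j I W)

end SecSupp

end

end Groth.Agent.Lib.Helper22.EdgeIso
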