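import Groth.Agent.Lib.Helper22.EdgeIso.Comparison
import Groth.Agent.Lib.Helper22.KerSeq.Basic

/-!
# Edge isomorphism and vanishing for derived functors of a composite; consequences of the long exact
sequence of a short exact sequence of functors (helper22)
-/

set_option autoImplicit false
set_option linter.unusedSectionVars false

universe v₁ v₂ v₃ u₁ u₂ u₃

open CategoryTheory CategoryTheory.Limits HomologicalComplex

namespace Groth.Agent.Lib.Helper22.EdgeIso

noncomputable section

section Edge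

variable {A : Type u₁} [Category.{v₁} A] [Abelian A] [HasInjectiveResolutions A]
  {B : Type u₂} [Category.{v₂} B] [Abelian B] {C : Type u₃} [Category.{v₃} C] [Abelian C]
  (Φ : A ⥤ B) [Φ.Additive] (Ψ : B ⥤ C) [Ψ.Additive] [PreservesFiniteLimits Ψ]
  {𝒜 : B → Prop} (h𝒜 : AcyclicClass Ψ 𝒜) (hΦ : ∀ I : A, Injective I → 𝒜 (Φ.obj I))

include h𝒜 hΦ in
/-- If `R^q Φ X = 0` for `q < n` and `Φ` sends injectives to `Ψ`-acyclics, then the edge map
`R^n (Φ ⋙ Ψ) X ⟶ Ψ (R^n Φ X)` is an isomorphism. -/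
theorem isIso_edgeOut (X : A) (n : ℕ) (h : ∀ q, q < n → IsZero ((Φ.rightDerived q).obj X)) :
    IsIso (RDer.edgeOut Φ Ψ n X) := by
  let I := injectiveResolution X
  let K := (Φ.mapHomologicalComplex _).obj I.cocomplex
  have hK : ∀ i, i < n → 𝒜 (K.X i) := fun i _ => hΦ _ (I.injective i)
  have hex : ∀ p, p < n → K.ExactAt p := by
    intro p hp
    rw [HomologicalComplex.exactAt_iff_isZero_homology]
    exact IsZero.of_iso (h p hp) (I.isoRightDerivedObj Φ p).symm
  have h1 := isIso_homologyComparison h𝒜 K n hK hex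
  unfold RDer.edgeOut
  refine @IsIso.comp_isIso _ _ _ _ _ _ _ inferInstance
    (@IsIso.comp_isIso _ _ _ _ _ _ _ ?_ inferInstance)
  exact h1

include h𝒜 hΦ in
/-- If `R^q Φ X = 0` for `q < n` then `R^q (Φ ⋙ Ψ) X = 0` for `q < n`. -/
theorem isZero_rightDerived_comp (X : A) (n : ℕ)
    (h : ∀ q, q < n → IsZero ((Φ.rightDerived q).obj X)) (q : ℕ) (hq : q < n) :
    IsZero (((Φ ⋙ Ψ).rightDerived q).obj X) := by
  have hI := isIso_edgeOut Φ Ψ h𝒜 hΦ X q (fun p hp => h p (hp.trans hq))
  exact IsZero.of_iso (Functor.map_isZero Ψ (h q hq)) (@asIso _ _ _ _ _ hI)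

end Edge

section LES

variable {B : Type u₂} [Category.{v₂} B] [Abelian B]
  {S : ShortComplex (CochainComplex B ℕ)} (hS : S.ShortExact)

include hS in
/-- In the long exact sequence, `H^i(X₂) ⟶ H^i(X₃)` is an isomorphism when
`H^i(X₁) = 0 = H^{i+1}(X₁)`. -/
theorem isIso_homologyMap_g (i : ℕ) (h0 : IsZero (S.X₁.homology i))
    (h1 : IsZero (S.X₁.homology (i + 1))) : IsIso (homologyMap S.g i) := by
  have hm : Mono (homologyMap S.g i) :=
    (hS.homology_exact₂ i).mono_g (h0.eq_of_src _ _)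
  have he : Epi (homologyMap S.g i) :=
    (hS.homology_exact₃ i (i + 1) rfl).epi_f (h1.eq_of_tgt _ _)
  exact isIso_of_mono_of_epi _

include hS in
lemma mono_homologyMap_f_zero : Mono (homologyMap S.f 0) := by
  have : Mono S.f := hS.mono_f
  have h1 : Mono (cyclesMap S.f 0) := inferInstance
  have h2 : IsIso (S.X₁.homologyπ 0) := inferInstanceAs (IsIso (CochainComplex.isoHomologyπ₀ _).hom)
  have h3 : IsIso (S.X₂.homologyπ 0) := inferInstanceAs (IsIso (CochainComplex.isoHomologyπ₀ _).hom)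
  have h4 : homologyMap S.f 0 = inv (S.X₁.homologyπ 0) ≫ cyclesMap S.f 0 ≫ S.X₂.homologyπ 0 := by
    rw [IsIso.eq_inv_comp, homologyπ_naturality]
  rw [h4]
  infer_instance

include hS in
/-- The cohomology of `X₁` vanishes in degrees `< n` iff `H^p(X₂) ⟶ H^p(X₃)` is an isomorphism for
`p + 1 < n` and a monomorphism for `p + 1 = n`. -/
theorem isZero_homology_iff (n : ℕ) :
    (∀ p, p < n → IsZero (S.X₁.homology p)) ↔
      (∀ p, p + 1 < n → IsIso (homologyMap S.g p)) ∧
        (∀ p, p + 1 = n → Mono (homologyMap S.g p)) := by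
  constructor
  · intro h
    refine ⟨fun p hp => isIso_homologyMap_g hS p (h p (by omega)) (h (p + 1) hp), fun p hp => ?_⟩
    exact (hS.homology_exact₂ p).mono_g ((h p (by omega)).eq_of_src _ _)
  · rintro ⟨hiso, hmono⟩ p hp
    have hm : Mono (homologyMap S.g p) := by
      by_cases h1 : p + 1 < n
      · have := hiso p h1
        infer_instance
      · exact hmono p (by omega)
    have hf0 : homologyMap S.f p = 0 := by
      rw [← cancel_mono (homologyMap S.g p), zero_comp, ← homologyMap_comp, S.zero,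
        homologyMap_zero]
    cases p with
    | zero =>
      have := mono_homologyMap_f_zero hS
      exact IsZero.of_mono_eq_zero _ hf0
    | succ p =>
      have he : Epi (hS.δ p (p + 1) rfl) := (hS.homology_exact₁ p (p + 1) rfl).epi_f hf0
      have hg : IsIso (homologyMap S.g p) := hiso p (by omega)
      have hδ0 : hS.δ p (p + 1) rfl = 0 := by
        rw [← cancel_epi (homologyMap S.g p), comp_zero]
        exact hS.comp_δ p (p + 1) rfl
      exact IsZero.of_epi_eq_zero _ hδ0

end LES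

section Functors

open Groth.Agent.Lib.Helper22.KerSeq

variable {A : Type u₁} [Category.{v₁} A] [Abelian A] [HasInjectiveResolutions A]
  {B : Type u₂} [Category.{v₂} B] [Abelian B]
  {G₁ G₂ G₃ : A ⥤ B} [G₁.Additive] [G₂.Additive] [G₃.Additive] (α : G₁ ⟶ G₂) (β : G₂ ⟶ G₃)
  (w : α ≫ β = 0)
  (hex : ∀ I : A, Injective I →
    (ShortComplex.mk (α.app I) (β.app I) (w_app α β w I)).ShortExact)

include hex in
/-- `R^i G₂ X ≅ R^i G₃ X` when `R^i G₁ X = 0 = R^{i+1} G₁ X`. -/
theorem nonempty_rightDerived_iso (X : A) (i : ℕ) (h0 : IsZero ((G₁.rightDerived i).obj X))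
    (h1 : IsZero ((G₁.rightDerived (i + 1)).obj X)) :
    Nonempty ((G₂.rightDerived i).obj X ≅ (G₃.rightDerived i).obj X) := by
  let I := injectiveResolution X
  have hS := SC_shortExact α β w hex I.cocomplex (fun n => I.injective n)
  have z0 : IsZero ((SC α β w I.cocomplex).X₁.homology i) :=
    IsZero.of_iso h0 (I.isoRightDerivedObj G₁ i).symm
  have z1 : IsZero ((SC α β w I.cocomplex).X₁.homology (i + 1)) :=
    IsZero.of_iso h1 (I.isoRightDerivedObj G₁ (i + 1)).symm
  have hI := isIso_homologyMap_g hS i z0 z1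
  exact ⟨I.isoRightDerivedObj G₂ i ≪≫ @asIso _ _ _ _ _ hI ≪≫ (I.isoRightDerivedObj G₃ i).symm⟩

omit [Abelian A] [HasInjectiveResolutions A] [Abelian B] in
lemma mono_conj_iff {𝒞 : Type*} [Category 𝒞] {P Q P' Q' : 𝒞} (e : P' ≅ P) (m : P ⟶ Q) (e' : Q ≅ Q') :
    Mono (e.hom ≫ m ≫ e'.hom) ↔ Mono m := by
  constructor
  · intro h
    have h1 : m = e.inv ≫ (e.hom ≫ m ≫ e'.hom) ≫ e'.inv := by simp
    rw [h1]
    infer_instance
  · intro h
    infer_instance

omit [Abelian A] [HasInjectiveResolutions A] [Abelian B] in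
lemma isIso_conj_iff {𝒞 : Type*} [Category 𝒞] {P Q P' Q' : 𝒞} (e : P' ≅ P) (m : P ⟶ Q)
    (e' : Q ≅ Q') : IsIso (e.hom ≫ m ≫ e'.hom) ↔ IsIso m := by
  rw [isIso_comp_left_iff, isIso_comp_right_iff]

include hex in
/-- `R^p G₁ X = 0` for `p < n` iff `R^p G₂ X ⟶ R^p G₃ X` is an isomorphism for `p + 1 < n` and a
monomorphism for `p + 1 = n`. -/
theorem isZero_rightDerived_iff (X : A) (n : ℕ) :
    (∀ p, p < n → IsZero ((G₁.rightDerived p).obj X)) ↔
      (∀ p, p + 1 < n → IsIso ((NatTrans.rightDerived β p).app X)) ∧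
        (∀ p, p + 1 = n → Mono ((NatTrans.rightDerived β p).app X)) := by
  let I := injectiveResolution X
  have hS := SC_shortExact α β w hex I.cocomplex (fun n => I.injective n)
  have hz : ∀ p, IsZero ((G₁.rightDerived p).obj X) ↔
      IsZero ((SC α β w I.cocomplex).X₁.homology p) := fun p =>
    (I.isoRightDerivedObj G₁ p).isZero_iff
  have hβ : ∀ p, (NatTrans.rightDerived β p).app X = (I.isoRightDerivedObj G₂ p).hom ≫
      homologyMap (SC α β w I.cocomplex).g p ≫ (I.isoRightDerivedObj G₃ p).symm.hom := fun p =>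
    InjectiveResolution.rightDerived_app_eq β I p
  have hi : ∀ p, IsIso ((NatTrans.rightDerived β p).app X) ↔
      IsIso (homologyMap (SC α β w I.cocomplex).g p) := fun p => by
    rw [hβ p]
    exact isIso_conj_iff _ _ _
  have hm : ∀ p, Mono ((NatTrans.rightDerived β p).app X) ↔
      Mono (homologyMap (SC α β w I.cocomplex).g p) := fun p => by
    rw [hβ p]
    exact mono_conj_iff _ _ _
  simp only [hz, hi, hm]
  exact isZero_homology_iff hS n

end Functors

end

end Groth.Agent.Lib.Helper22.EdgeIso
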